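import Groth.Agent.Lib.EtSite.HensClosed
import Groth.Agent.Lib.EtGerm.Basic

/-!
# Local lifts of a section of the inverse image along a closed immersion
-/

universe u

open CategoryTheory CategoryTheory.Limits AlgebraicGeometry TopologicalSpace Opposite

namespace Groth.Agent.Lib.Gabber50.Sections

open Groth.Agent.Lib.EtSite Groth.Agent.Lib.EtSite.Basic Groth.Agent.Lib.EtSite.Stalk
  Groth.Agent.Lib.EtSite.PushStalk Groth.Agent.Lib.EtSite.UnitStalk Groth.Agent.Lib.EtSite.HensClosed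
open Groth.Agent.Lib.EtGerm.Basic (germ germ_map agree germ_eq_iff)

variable {Z X : Scheme.{u}} (i : Z ⟶ X) (F : EtCoh.Ab X)
  (t : EtCoh.sect ((EtCoh.pull i).obj F) ((EtCoh.bc i).obj (EtCoh.top X)))

/-- The canonical map to the final object. -/
noncomputable abbrev toTop (V : X.Etale) : V ⟶ EtCoh.top X := (EtCore.topIsTerminal X).from V

/-- A section restricting to `t`. -/
def Good (V : X.Etale) (s : EtCoh.sect F V) : Prop :=
  unitAt i F V s = ((EtCoh.pull i).obj F).obj.map ((EtCoh.bc i).map (toTop V)).op t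

theorem Good.map {V V' : X.Etale} (a : V' ⟶ V) {s : EtCoh.sect F V} (h : Good i F t V s) :
    Good i F t V' (F.obj.map a.op s) := by
  unfold Good at h ⊢
  rw [unitAt_map i F a s, h, ← (EtCore.topIsTerminal X).hom_ext (a ≫ toTop V) (toTop V'),
    Functor.map_comp, op_comp, Functor.map_comp]
  rfl

theorem subsingleton_fiber_top {Ω : Type u} [Field Ω] [IsSepClosed Ω]
    (η : Spec (CommRingCat.of Ω) ⟶ X) :
    Subsingleton ((Scheme.pointSmallEtale η).fiber.obj (EtCoh.top X)) :=
  ⟨fun x y => Over.OverMorphism.ext (((Category.comp_id _).symm.trans (fiberHom_comp x)).trans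
    ((Category.comp_id _).symm.trans (fiberHom_comp y)).symm)⟩

/-- Good sections have the same germs over `Z`. -/
theorem germ_eq {V V' : X.Etale} {s : EtCoh.sect F V} {s' : EtCoh.sect F V'}
    (h : Good i F t V s) (h' : Good i F t V' s') {Ω : Type u} [Field Ω] [IsSepClosed Ω]
    (ξ : Spec (CommRingCat.of Ω) ⟶ Z)
    (p : (Scheme.pointSmallEtale (ξ ≫ i)).fiber.obj V)
    (p' : (Scheme.pointSmallEtale (ξ ≫ i)).fiber.obj V') :
    germ F (ξ ≫ i) V p s = germ F (ξ ≫ i) V' p' s' := by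
  have := subsingleton_fiber_top (ξ ≫ i)
  refine (unitStalk_injective i ξ F).1 ?_
  refine (unitStalk_germ i ξ F V p s).trans (Eq.trans ?_ (unitStalk_germ i ξ F V' p' s').symm)
  rw [show unitAt i F V s = _ from h, show unitAt i F V' s' = _ from h']
  refine ((Scheme.pointSmallEtale ξ).toPresheafFiber_w_apply _ _ _ t).trans
    (Eq.trans ?_ ((Scheme.pointSmallEtale ξ).toPresheafFiber_w_apply _ _ _ t).symm)
  rw [map_liftPt, map_liftPt, Subsingleton.elim ((Scheme.pointSmallEtale (ξ ≫ i)).fiber.map (toTop V) p)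
    ((Scheme.pointSmallEtale (ξ ≫ i)).fiber.map (toTop V') p')]

/-- Good sections agree near the preimage of `Z`. -/
theorem mem_agree {V : X.Etale} {s s' : EtCoh.sect F V}
    (hs : ∀ {Ω : Type u} [Field Ω] [IsSepClosed Ω] (ξ : Spec (CommRingCat.of Ω) ⟶ Z)
      (p : (Scheme.pointSmallEtale (ξ ≫ i)).fiber.obj V), germ F (ξ ≫ i) V p s = germ F (ξ ≫ i) V p s')
    (v : V.left) (hv : V.hom.base v ∈ Set.range i.base) : v ∈ agree F V s s' := by
  obtain ⟨z, hz⟩ := hv
  obtain ⟨p, hp⟩ := exists_fiber (Push.algPoint Z z ≫ i) V v (by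
    rw [Scheme.Hom.comp_apply, Push.algPoint_apply]; exact hz.symm)
  rw [← hp]
  exact (germ_eq_iff F _ V p s s').mp (hs (Push.algPoint Z z) p)

variable [IsClosedImmersion i]

/-- Good sections exist locally. -/
theorem exists_good (z : Z) :
    ∃ (V : X.Etale) (_ : IsAffine V.left) (s : EtCoh.sect F V),
      Good i F t V s ∧ ∃ v : V.left, V.hom.base v = i.base z := by
  let ξ := Push.algPoint Z z
  have hξ : (ξ ≫ i).base default = i.base z := by
    rw [Scheme.Hom.comp_apply, Push.algPoint_apply]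
  obtain ⟨p₀, -⟩ := exists_fiber (ξ ≫ i) (EtCoh.top X) ((ξ ≫ i).base default) rfl
  obtain ⟨zF, hzF⟩ := (unitStalk_injective i ξ F).2
    ((Scheme.pointSmallEtale ξ).toPresheafFiber _ (liftPt i rfl _ p₀) ((EtCoh.pull i).obj F).obj t)
  obtain ⟨U, q, s, rfl⟩ := (Scheme.pointSmallEtale (ξ ≫ i)).toPresheafFiber_jointly_surjective zF
  erw [unitStalk_germ] at hzF
  let G := (EtCoh.pull i).obj F
  let P := unitAt i F U s
  let Q := G.obj.map ((EtCoh.bc i).map (toTop U)).op t
  have hgerm : germ G ξ ((EtCoh.bc i).obj U) (liftPt i rfl U q) P =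
      germ G ξ ((EtCoh.bc i).obj U) (liftPt i rfl U q) Q := by
    refine hzF.trans (Eq.trans ?_ ((Scheme.pointSmallEtale ξ).toPresheafFiber_w_apply _ _ _ t).symm)
    have := subsingleton_fiber_top (ξ ≫ i)
    rw [map_liftPt, Subsingleton.elim ((Scheme.pointSmallEtale (ξ ≫ i)).fiber.map (toTop U) q) p₀]
  have hmem := (germ_eq_iff G ξ _ (liftPt i rfl U q) P Q).mp hgerm
  let fst : ((EtCoh.bc i).obj U).left ⟶ U.left := pullback.fst U.hom i
  have : IsClosedImmersion fst := inferInstanceAs (IsClosedImmersion (pullback.fst U.hom i))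
  obtain ⟨O, hO, hOA⟩ := fst.isClosedEmbedding.isInducing.isOpen_iff.mp
    (EtGerm.Basic.isOpen_agree G ((EtCoh.bc i).obj U) P Q)
  have hfst : fst.base (fiberPt (liftPt i rfl U q)) = fiberPt q := by
    refine (Scheme.Hom.comp_apply _ _ _).symm.trans ?_
    exact congrArg (fun m : Spec (CommRingCat.of _) ⟶ U.left => m.base default)
      (pullback.lift_fst _ _ _)
  have hqO : fiberPt q ∈ O := hfst ▸ (Set.ext_iff.mp hOA _).mpr hmem
  obtain ⟨W, hW, hqW, hWO⟩ := exists_isAffineOpen_mem_and_subset (X := U.left)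
    (U := ⟨O, hO⟩) hqO
  have : Etale U.hom := U.prop
  let V : X.Etale := Scheme.Etale.mk (W.ι ≫ U.hom)
  let a : V ⟶ U := MorphismProperty.Over.homMk W.ι rfl
  refine ⟨V, hW, F.obj.map a.op s, ?_, ⟨⟨fiberPt q, hqW⟩, ?_⟩⟩
  · unfold Good
    rw [unitAt_map i F a s, ← (EtCore.topIsTerminal X).hom_ext (a ≫ toTop U) (toTop V),
      Functor.map_comp, op_comp, Functor.map_comp]
    refine sections_ext_of_germ G _ _ (enoughPts_pt fun z' r => ?_)
    change germ G _ _ r (G.obj.map ((EtCoh.bc i).map a).op P) =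
      germ G _ _ r (G.obj.map ((EtCoh.bc i).map a).op Q)
    rw [germ_map, germ_map, germ_eq_iff]
    refine (Set.ext_iff.mp hOA _).mp ?_
    change fst.base (((EtCoh.bc i).map a).left.base (fiberPt r)) ∈ O
    rw [← Scheme.Hom.comp_apply]
    refine Set.mem_of_eq_of_mem (congr($((EtCoh.isPullback_bc_map i a).w) (fiberPt r))) ?_
    exact hWO (Subtype.prop _)
  · exact (hom_fiberPt q).trans hξ

end Groth.Agent.Lib.Gabber50.Sections
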