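import Groth.Agent.Lib.Gabber50.Key
import Groth.Agent.Lib.Spectral.Basic
import Groth.Agent.Lib.EtSite.PropBC

/-!
# Gabber's criterion: gluing
-/

universe u

open CategoryTheory CategoryTheory.Limits AlgebraicGeometry TopologicalSpace Opposite Topology

namespace Groth.Agent.Lib.Gabber50.Glue

open Groth.Agent.Lib.EtSite Groth.Agent.Lib.EtSite.Basic Groth.Agent.Lib.EtSite.Stalk
  Groth.Agent.Lib.EtSite.HensClosed
open Groth.Agent.Lib.EtGerm.Basic (germ germ_map agree germ_eq_iff prodEt prodFst prodSnd)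
open Groth.Agent.Lib.Gabber50.Sections (Good toTop)

/-- Constructibly separating generalisations of compact sets through two maps. -/
theorem exists_separate {P X₁ X₂ : Type u} [TopologicalSpace P] [CompactSpace P]
    [QuasiSeparatedSpace P] [QuasiSober P] [PrespectralSpace P]
    [TopologicalSpace X₁] [PrespectralSpace X₁] [QuasiSeparatedSpace X₁]
    [TopologicalSpace X₂] [PrespectralSpace X₂] [QuasiSeparatedSpace X₂]
    {a : P → X₁} {b : P → X₂}
    (ha : ∀ O, IsOpen O → IsCompact O → IsOpen (a ⁻¹' O) ∧ IsCompact (a ⁻¹' O))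
    (hb : ∀ O, IsOpen O → IsCompact O → IsOpen (b ⁻¹' O) ∧ IsCompact (b ⁻¹' O))
    {K : Set X₁} {K' : Set X₂} (hK : IsCompact K) (hK' : IsCompact K')
    {B : Set P} (hB : IsClosed B) (h : ∀ x ∈ B, ∀ k ∈ K, ∀ k' ∈ K', a x ⤳ k → ¬ b x ⤳ k') :
    ∃ O O', IsOpen O ∧ IsOpen O' ∧ K ⊆ O ∧ K' ⊆ O' ∧ a ⁻¹' O ∩ b ⁻¹' O' ∩ B = ∅ := by
  let W := {p : Set X₁ × Set X₂ // IsOpen p.1 ∧ IsCompact p.1 ∧ K ⊆ p.1 ∧
    IsOpen p.2 ∧ IsCompact p.2 ∧ K' ⊆ p.2}
  obtain ⟨w₀⟩ : Nonempty W := by
    obtain ⟨o, ho, hoo, hKo, -⟩ :=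
      PrespectralSpace.exists_isCompact_and_isOpen_between hK isOpen_univ (Set.subset_univ _)
    obtain ⟨o', ho', hoo', hKo', -⟩ :=
      PrespectralSpace.exists_isCompact_and_isOpen_between hK' isOpen_univ (Set.subset_univ _)
    exact ⟨⟨(o, o'), hoo, ho, hKo, hoo', ho', hKo'⟩⟩
  have : Nonempty W := ⟨w₀⟩
  have key : B ∩ ⋂ w : W, a ⁻¹' w.1.1 ∩ b ⁻¹' w.1.2 = ∅ := by
    refine Set.eq_empty_of_forall_notMem fun x ⟨hx, hxW⟩ => ?_
    have hmem := fun w : W => Set.mem_iInter.mp hxW w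
    have h1 : ∃ k ∈ K, a x ⤳ k := by
      by_contra hne
      simp only [not_exists, not_and] at hne
      obtain ⟨o, hc, ho, hKo, hsub⟩ := PrespectralSpace.exists_isCompact_and_isOpen_between hK
        (isClosed_closure (s := ({a x} : Set X₁))).isOpen_compl
        (fun k hk hk' => hne k hk (specializes_iff_mem_closure.mpr hk'))
      exact hsub (hmem ⟨(o, w₀.1.2), ho, hc, hKo, w₀.2.2.2.2⟩).1 (subset_closure rfl)
    have h2 : ∃ k' ∈ K', b x ⤳ k' := by
      by_contra hne
      simp only [not_exists, not_and] at hne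
      obtain ⟨o, hc, ho, hKo, hsub⟩ := PrespectralSpace.exists_isCompact_and_isOpen_between hK'
        (isClosed_closure (s := ({b x} : Set X₂))).isOpen_compl
        (fun k hk hk' => hne k hk (specializes_iff_mem_closure.mpr hk'))
      exact hsub (hmem ⟨(w₀.1.1, o), w₀.2.1, w₀.2.2.1, w₀.2.2.2.1, ho, hc, hKo⟩).2 (subset_closure rfl)
    obtain ⟨k, hk, hxk⟩ := h1
    obtain ⟨k', hk', hxk'⟩ := h2
    exact h x hx k hk k' hk' hxk hxk'
  have hdir : Directed (· ⊇ ·) fun w : W => a ⁻¹' w.1.1 ∩ b ⁻¹' w.1.2 := by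
    rintro ⟨⟨o, o'⟩, hoo, ho, hKo, hoo', ho', hKo'⟩ ⟨⟨e, e'⟩, heo, he, hKe, heo', he', hKe'⟩
    exact ⟨⟨(o ∩ e, o' ∩ e'), hoo.inter heo, ho.inter_of_isOpen he hoo heo, Set.subset_inter hKo hKe,
      hoo'.inter heo', ho'.inter_of_isOpen he' hoo' heo', Set.subset_inter hKo' hKe'⟩,
      fun x hx => ⟨hx.1.1, hx.2.1⟩, fun x hx => ⟨hx.1.2, hx.2.2⟩⟩
  obtain ⟨w, hw⟩ := @IsCompact.elim_directed_family_closed P (constructibleTopology P) B W _
    (Spectral.Basic.isCompact_cons_of_isClosed (Spectral.Basic.isClosed_cons_of_isClosed hB))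
    (fun w : W => a ⁻¹' w.1.1 ∩ b ⁻¹' w.1.2)
    (fun w => @IsClosed.inter P _ _ (constructibleTopology P)
      (Spectral.Basic.isClosed_cons (ha _ w.2.1 w.2.2.1).1 (ha _ w.2.1 w.2.2.1).2)
      (Spectral.Basic.isClosed_cons (hb _ w.2.2.2.2.1 w.2.2.2.2.2.1).1 (hb _ w.2.2.2.2.1 w.2.2.2.2.2.1).2))
    key hdir
  exact ⟨w.1.1, w.1.2, w.2.1, w.2.2.2.2.1, w.2.2.2.1, w.2.2.2.2.2.2, by rw [Set.inter_comm]; exact hw⟩

variable {Z X : Scheme.{u}} {i : Z ⟶ X} [IsClosedImmersion i]
  (H : Integral.Crit i) [CompactSpace X] [QuasiSeparatedSpace X] (F : EtCoh.Ab X)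

omit [IsClosedImmersion i] [CompactSpace X] [QuasiSeparatedSpace X] in
include H in
theorem eq_univ_of_isOpen {O : Set X} (hO : IsOpen O) (h : Set.range i.base ⊆ O) : O = Set.univ := by
  by_contra hne
  obtain ⟨x, hx, hxZ⟩ := Integral.meets H hO.isClosed_compl (Set.nonempty_compl.mpr hne)
  exact hx (h hxZ)

omit [IsClosedImmersion i] [CompactSpace X] [QuasiSeparatedSpace X] in
include H in
theorem injective :
    Function.Injective (unitAt i F (EtCoh.top X)) := by
  intro s s' h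
  refine sections_ext_of_germ F s s' (enoughPts_pt fun x p => ?_)
  change germ F _ _ p s = germ F _ _ p s'
  rw [germ_eq_iff]
  have hsub : Set.range i.base ⊆ agree F (EtCoh.top X) s s' := by
    rintro _ ⟨z, rfl⟩
    refine Sections.mem_agree i F (fun ξ p => ?_) _ ⟨z, rfl⟩
    refine (unitStalk_injective i ξ F).1 ?_
    rw [show germ F (ξ ≫ i) _ p s = _ from rfl]
    exact (unitStalk_germ i ξ F _ p s).trans ((congrArg _ h).trans (unitStalk_germ i ξ F _ p s').symm)
  exact (eq_univ_of_isOpen H (EtGerm.Basic.isOpen_agree F _ s s') hsub).symm ▸ Set.mem_univ _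

include H in
theorem surjective : Function.Surjective (unitAt i F (EtCoh.top X)) := by
  classical
  intro t
  have hZc : CompactSpace Z := QuasiCompact.compactSpace_of_compactSpace i
  choose V hV s hs v hv using Sections.exists_good i F t
  obtain ⟨T, hT⟩ := isCompact_univ.elim_finite_subcover
    (fun z : Z => i.base ⁻¹' Set.range (V z).hom.base)
    (fun z => by
      have : Etale (V z).hom := (V z).prop
      exact ((V z).hom.isOpenMap.isOpen_range).preimage i.continuous)
    (fun z _ => Set.mem_iUnion.mpr ⟨z, v z, hv z⟩)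
  let κ := {z : Z // z ∈ T}
  have hsep : ∀ k : κ, IsSeparated (V k.1).hom ∧ QuasiCompact (V k.1).hom := fun k =>
    have := hV k.1
    Key.separated_quasiCompact (show (V k.1).left ⟶ X from (V k.1).hom)
  let c : κ → Key.GS i F t := fun k => ⟨V k.1, (hsep k).1, (hsep k).2, s k.1, hs k.1⟩
  have hcomp : ∀ k : κ, CompactSpace (c k).V.left := fun k =>
    have : QuasiCompact (show (c k).V.left ⟶ X from (c k).V.hom) := (c k).qc
    QuasiCompact.compactSpace_of_compactSpace (show (c k).V.left ⟶ X from (c k).V.hom)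
  have hqs : ∀ k : κ, QuasiSeparatedSpace (c k).V.left := fun k =>
    have : IsSeparated (show (c k).V.left ⟶ X from (c k).V.hom) := (c k).sep
    quasiSeparatedSpace_of_quasiSeparated (show (c k).V.left ⟶ X from (c k).V.hom)
  let K : ∀ k : κ, Set (c k).V.left := fun k => (c k).V.hom.base ⁻¹' Set.range i.base
  have hKc : ∀ k, IsCompact (K k) := fun k =>
    @IsClosed.isCompact (c k).V.left _ _ (hcomp k) (H.closed.preimage (c k).V.hom.continuous)
  let a₁ : ∀ k l : κ, F.obj.obj (op (prodEt (c k).V (c l).V)) := fun k l =>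
    F.obj.map (prodFst (c k).V (c l).V).op (c k).s
  let a₂ : ∀ k l : κ, F.obj.obj (op (prodEt (c k).V (c l).V)) := fun k l =>
    F.obj.map (prodSnd (c k).V (c l).V).op (c l).s
  have hpair : ∀ k l : κ, ∃ O O', IsOpen O ∧ IsOpen O' ∧ K k ⊆ O ∧ K l ⊆ O' ∧
      (prodFst (c k).V (c l).V).left.base ⁻¹' O ∩ (prodSnd (c k).V (c l).V).left.base ⁻¹' O' ∩
        (agree F (prodEt (c k).V (c l).V) (a₁ k l) (a₂ k l))ᶜ = ∅ := by
    intro k l
    let vk : (c k).V.left ⟶ X := (c k).V.hom
    let vl : (c l).V.left ⟶ X := (c l).V.hom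
    let P := pullback vk vl
    have : IsSeparated vk := (c k).sep
    have : IsSeparated vl := (c l).sep
    have : QuasiCompact vk := (c k).qc
    have : QuasiCompact vl := (c l).qc
    have := hqs k
    have := hqs l
    have := hcomp k
    have : CompactSpace P := QuasiCompact.compactSpace_of_compactSpace (pullback.fst vk vl)
    have : QuasiSeparatedSpace P := quasiSeparatedSpace_of_quasiSeparated (pullback.fst vk vl)
    refine exists_separate (P := P)
      (a := (pullback.fst vk vl).base) (b := (pullback.snd vk vl).base)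
      (fun O ho hc => ⟨ho.preimage (pullback.fst vk vl).continuous,
        QuasiCompact.isCompact_preimage (f := pullback.fst vk vl) O ho hc⟩)
      (fun O ho hc => ⟨ho.preimage (pullback.snd vk vl).continuous,
        QuasiCompact.isCompact_preimage (f := pullback.snd vk vl) O ho hc⟩)
      (hKc k) (hKc l)
      (EtGerm.Basic.isOpen_agree F (prodEt (c k).V (c l).V) (a₁ k l) (a₂ k l)).isClosed_compl ?_
    intro x hx y hy y' hy' hxy hxy'
    obtain ⟨p, hp⟩ := exists_fiber_geomPoint (prodEt (c k).V (c l).V) x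
    have h := Key.germ_eq H (c k) (c l) _
      ((Scheme.pointSmallEtale _).fiber.map (prodFst (c k).V (c l).V) p)
      ((Scheme.pointSmallEtale _).fiber.map (prodSnd (c k).V (c l).V) p)
      ⟨y, hy, by rw [fiberPt_map, hp]; exact hxy⟩ ⟨y', hy', by rw [fiberPt_map, hp]; exact hxy'⟩
    rw [← germ_map, ← germ_map, germ_eq_iff, hp] at h
    exact hx h
  choose A B hAo hBo hKA hKB hAB using hpair
  let O : ∀ k : κ, (c k).V.left.Opens := fun k => ⟨⋂ l, (A k l ∩ B l k),
    isOpen_iInter_of_finite fun l => (hAo k l).inter (hBo l k)⟩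
  have hKO : ∀ k, K k ⊆ O k := fun k y hy =>
    Set.mem_iInter.mpr fun l => ⟨hKA k l hy, hKB l k hy⟩
  have hEt : ∀ k : κ, Etale (show (c k).V.left ⟶ X from (c k).V.hom) := fun k => (c k).V.prop
  let W : κ → X.Etale := fun k =>
    have := hEt k
    Scheme.Etale.mk ((O k).ι ≫ (show (c k).V.left ⟶ X from (c k).V.hom))
  let e : ∀ k, W k ⟶ (c k).V := fun k => MorphismProperty.Over.homMk (O k).ι rfl
  let sW : ∀ k, EtCoh.sect F (W k) := fun k => F.obj.map (e k).op (c k).s
  have hcovZ : ∀ z : Z, ∃ (k : κ) (w : (W k).left), (W k).hom.base w = i.base z := by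
    intro z
    obtain ⟨z', hz', y, hy⟩ := Set.mem_iUnion₂.mp (hT (Set.mem_univ z))
    exact ⟨⟨z', hz'⟩, ⟨y, hKO ⟨z', hz'⟩ ⟨z, hy.symm⟩⟩, hy⟩
  have hcov : (⋃ k, Set.range (show (W k).left ⟶ X from (W k).hom).base) = Set.univ := by
    refine eq_univ_of_isOpen H (isOpen_iUnion fun k => ?_) ?_
    · have : Etale (W k).hom := (W k).prop
      exact (W k).hom.isOpenMap.isOpen_range
    · rintro _ ⟨z, rfl⟩
      obtain ⟨k, w, hw⟩ := hcovZ z
      exact Set.mem_iUnion.mpr ⟨k, w, hw⟩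
  have ho : ∀ k, (toTop (W k)).left = (W k).hom := fun k =>
    (Category.comp_id _).symm.trans (Over.w (toTop (W k)).hom)
  have hS : (Presieve.ofArrows W fun k => toTop (W k)).IsSheafFor
      (F.obj ⋙ forget AddCommGrpCat.{u + 1}) := by
    rw [Presieve.isSheafFor_iff_generate]
    refine (isSheaf_iff_isSheaf_of_type _ _).1
      ((sheafCompose _ (forget AddCommGrpCat.{u + 1})).obj F).2 _ (ofArrows_mem W _ fun x => ?_)
    obtain ⟨k, w, hw⟩ := Set.mem_iUnion.mp (hcov ▸ Set.mem_univ x)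
    exact ⟨k, w, (congrArg (fun m => m.base w) (ho k)).trans hw⟩
  obtain ⟨s₀, hs₀, -⟩ := (Presieve.isSheafFor_arrows_iff _ _).1 hS sW fun k l S g₁ g₂ _ => by
    let G₁ := g₁ ≫ e k
    let G₂ := g₂ ≫ e l
    let m : S ⟶ prodEt (c k).V (c l).V := MorphismProperty.Over.homMk
      (pullback.lift G₁.left G₂.left ((Over.w G₁.hom :).trans (Over.w G₂.hom :).symm))
      ((pullback.lift_fst_assoc _ _ _ _).trans (Over.w G₁.hom :))
    have h₁ : m ≫ prodFst (c k).V (c l).V = G₁ := MorphismProperty.Over.Hom.ext (pullback.lift_fst _ _ _)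
    have h₂ : m ≫ prodSnd (c k).V (c l).V = G₂ := MorphismProperty.Over.Hom.ext (pullback.lift_snd _ _ _)
    change F.obj.map g₁.op (F.obj.map (e k).op (c k).s) = F.obj.map g₂.op (F.obj.map (e l).op (c l).s)
    have k₁ : F.obj.map g₁.op (F.obj.map (e k).op (c k).s) = F.obj.map m.op (a₁ k l) := by
      simp only [a₁, ← ConcreteCategory.comp_apply, ← Functor.map_comp, ← op_comp, h₁]
      rfl
    have k₂ : F.obj.map g₂.op (F.obj.map (e l).op (c l).s) = F.obj.map m.op (a₂ k l) := by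
      simp only [a₂, ← ConcreteCategory.comp_apply, ← Functor.map_comp, ← op_comp, h₂]
      rfl
    rw [k₁, k₂]
    refine sections_ext_of_germ F _ _ (enoughPts_pt fun x p => ?_)
    change germ F _ _ p (F.obj.map m.op (a₁ k l)) = germ F _ _ p (F.obj.map m.op (a₂ k l))
    refine (germ_map F _ m p (a₁ k l)).trans (Eq.trans ?_ (germ_map F _ m p (a₂ k l)).symm)
    rw [germ_eq_iff, fiberPt_map]
    by_contra hne
    refine Set.eq_empty_iff_forall_notMem.mp (hAB k l) _ ⟨⟨?_, ?_⟩, hne⟩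
    · change (prodFst (c k).V (c l).V).left.base (m.left.base (fiberPt p)) ∈ A k l
      exact Set.mem_of_eq_of_mem (congrArg (fun a : S ⟶ (c k).V => a.left.base (fiberPt p)) h₁)
        (Set.mem_iInter.mp (g₁.left.base (fiberPt p)).2 l).1
    · change (prodSnd (c k).V (c l).V).left.base (m.left.base (fiberPt p)) ∈ B k l
      exact Set.mem_of_eq_of_mem (congrArg (fun a : S ⟶ (c l).V => a.left.base (fiberPt p)) h₂)
        (Set.mem_iInter.mp (g₂.left.base (fiberPt p)).2 k).2
  refine ⟨s₀, sections_ext ((EtCoh.pull i).obj F) _ _ fun x => ?_⟩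
  let xz := (pullback.snd (EtCoh.top X).hom i).base x
  obtain ⟨k, w, hw⟩ := hcovZ xz
  have hx : (toTop (W k)).left.base w = (pullback.fst (EtCoh.top X).hom i).base x := by
    refine (congrArg (fun m => m.base w) (ho k)).trans (hw.trans ?_)
    exact (congr($(pullback.condition (f := (EtCoh.top X).hom) (g := i)) x)).symm
  obtain ⟨x', hx'⟩ := PropBC.exists_preimage_bc i (toTop (W k)) x w hx
  refine ⟨(EtCoh.bc i).obj (W k), (EtCoh.bc i).map (toTop (W k)), ?_, x', hx'⟩
  rw [← unitAt_map, show F.obj.map (toTop (W k)).op s₀ = sW k from hs₀ k]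
  exact (c k).good.map i F t (e k)

include H in
theorem bijective : Function.Bijective (unitAt i F (EtCoh.top X)) :=
  ⟨injective H F, surjective H F⟩

end Groth.Agent.Lib.Gabber50.Glue
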