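import Groth.Agent.Lib.TopClosed50.Clopen
import Groth.Agent.Lib.Lim.Approx.Integral
import Mathlib.AlgebraicGeometry.IdealSheaf.Functorial

/-!
# Gabber's criterion: connectedness for integral irreducible schemes
-/

universe u

open CategoryTheory CategoryTheory.Limits AlgebraicGeometry TopologicalSpace Opposite

namespace Groth.Agent.Lib.Gabber50.Integral

open Groth.Agent.Lib.TopClosed50

/-- The hypothesis of Gabber's criterion. -/
structure Crit {Z X : Scheme.{u}} (i : Z ⟶ X) : Prop where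
  closed : IsClosed (Set.range i.base)
  top : Clopen.Bij (X := X.carrier) (Set.range i.base)
  fin : ∀ (X' : Scheme.{u}) (π : X' ⟶ X) [IsFinite π],
    Clopen.Bij (X := X'.carrier) (π.base ⁻¹' Set.range i.base)

variable {Z X : Scheme.{u}} {i : Z ⟶ X} (H : Crit i)

include H in
theorem meets {C : Set X} (hC : IsClosed C) (hne : C.Nonempty) : (C ∩ Set.range i.base).Nonempty :=
  Clopen.meets _ H.top hC hne

variable [CompactSpace X] [QuasiSeparatedSpace X]

set_option backward.isDefEq.respectTransparency false in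
include H in
theorem isPreconnected_preimage {Y : Scheme.{u}} (π : Y ⟶ X) [IsIntegralHom π] [PreconnectedSpace Y] :
    _root_.IsPreconnected (π.base ⁻¹' Set.range i.base) := by
  classical
  intro u v hu hv huv hune hvne
  by_contra hdis
  rw [Set.not_nonempty_iff_eq_empty] at hdis
  let C := π.base ⁻¹' Set.range i.base
  have hC : IsClosed C := H.closed.preimage π.continuous
  have : CompactSpace Y := QuasiCompact.compactSpace_of_compactSpace π
  have hcl : ∀ a b : Set Y, IsOpen b → C ⊆ a ∪ b → C ∩ (a ∩ b) = ∅ → IsCompact (C ∩ a) := by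
    intro a b hb hab he
    have : C ∩ a = C ∩ bᶜ := Set.ext fun y => ⟨fun h => ⟨h.1, fun hy =>
      Set.eq_empty_iff_forall_notMem.mp he y ⟨h.1, h.2, hy⟩⟩,
      fun h => ⟨h.1, (hab h.1).resolve_right h.2⟩⟩
    rw [this]
    exact (hC.inter hb.isClosed_compl).isCompact
  obtain ⟨U, hUc, hUo, hCU, hUu⟩ := PrespectralSpace.exists_isCompact_and_isOpen_between
    (hcl u v hv huv hdis) hu Set.inter_subset_right
  obtain ⟨V, hVc, hVo, hCV, hVv⟩ := PrespectralSpace.exists_isCompact_and_isOpen_between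
    (hcl v u hu (Set.union_comm u v ▸ huv) (Set.inter_comm v u ▸ hdis)) hv Set.inter_subset_right
  obtain ⟨R, hR⟩ := Groth.Agent.Lib.Lim.Approx.Integral.exists_finiteApprox π
  have := fun {a b : R.Kᵒᵖ} (g : a ⟶ b) => R.affine g
  obtain ⟨a, Ua, -, hUa⟩ := exists_preimage_eq R.D (Cone.mk Y R.π) R.isLimit ⟨U, hUo⟩ hUc
  obtain ⟨b, Vb, -, hVb⟩ := exists_preimage_eq R.D (Cone.mk Y R.π) R.isLimit ⟨V, hVo⟩ hVc
  let k := IsCofiltered.min a b
  let ga : k ⟶ a := IsCofiltered.minToLeft a b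
  let gb : k ⟶ b := IsCofiltered.minToRight a b
  let q : Y ⟶ R.D.obj k := R.π.app k
  have hqa : ∀ y, q.base y ∈ R.D.map ga ⁻¹ᵁ Ua ↔ y ∈ U := fun y => by
    have h1 : (R.D.map ga).base (q.base y) = (R.π.app a).base y := by
      rw [← Scheme.Hom.comp_apply]
      exact congr($((Cone.mk Y R.π).w ga) y)
    change (R.D.map ga).base (q.base y) ∈ Ua ↔ _
    rw [h1]
    exact Iff.of_eq (congrArg (fun O : Y.Opens => y ∈ O) hUa)
  have hqb : ∀ y, q.base y ∈ R.D.map gb ⁻¹ᵁ Vb ↔ y ∈ V := fun y => by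
    have h1 : (R.D.map gb).base (q.base y) = (R.π.app b).base y := by
      rw [← Scheme.Hom.comp_apply]
      exact congr($((Cone.mk Y R.π).w gb) y)
    change (R.D.map gb).base (q.base y) ∈ Vb ↔ _
    rw [h1]
    exact Iff.of_eq (congrArg (fun O : Y.Opens => y ∈ O) hVb)
  have := hR k
  let t : R.D.obj k ⟶ X := R.t.app k
  have hqt : q ≫ t = π := R.w k
  have : IsIntegralHom (q ≫ t) := by rw [hqt]; infer_instance
  have : IsIntegralHom q := IsIntegralHom.of_comp q t
  let J := Scheme.IdealSheafData.vanishingIdeal (X := R.D.obj k)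
    ⟨Set.range q.base, q.isClosedMap.isClosed_range⟩
  let ι := J.subschemeι
  have hr : Set.range ι.base = Set.range q.base := by
    rw [Scheme.IdealSheafData.range_subschemeι]; simp [J]
  have : IsFinite (ι ≫ t) := inferInstance
  have hb : Clopen.Bij (X := J.subscheme.carrier) ((ι ≫ t).base ⁻¹' Set.range i.base) := H.fin _ (ι ≫ t)
  have hlift : ∀ w : J.subscheme, (ι ≫ t).base w ∈ Set.range i.base →
      ∃ y ∈ C, q.base y = ι.base w := fun w hw => by
    obtain ⟨y, hy⟩ : ι.base w ∈ Set.range q.base := hr ▸ ⟨w, rfl⟩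
    refine ⟨y, ?_, hy⟩
    change π.base y ∈ Set.range i.base
    rw [← hqt, Scheme.Hom.comp_apply, hy]
    exact hw
  obtain ⟨S, hS, hSmem⟩ := Clopen.exists_isClopen _ hb (ι ⁻¹ᵁ (R.D.map ga ⁻¹ᵁ Ua))
    (ι ⁻¹ᵁ (R.D.map gb ⁻¹ᵁ Vb)) (fun w hw => by
      obtain ⟨y, hy, hyw⟩ := hlift w hw
      rcases huv hy with h | h
      · exact Or.inl (show ι.base w ∈ _ from hyw ▸ (hqa y).mpr (hCU ⟨hy, h⟩))
      · exact Or.inr (show ι.base w ∈ _ from hyw ▸ (hqb y).mpr (hCV ⟨hy, h⟩)))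
    (fun w hw h₁ h₂ => by
      obtain ⟨y, hy, hyw⟩ := hlift w hw
      have h₁' : q.base y ∈ R.D.map ga ⁻¹ᵁ Ua := hyw ▸ (show ι.base w ∈ _ from h₁)
      have h₂' : q.base y ∈ R.D.map gb ⁻¹ᵁ Vb := hyw ▸ (show ι.base w ∈ _ from h₂)
      exact Set.eq_empty_iff_forall_notMem.mp hdis y
        ⟨hy, hUu ((hqa y).mp h₁'), hVv ((hqb y).mp h₂')⟩)
  let S' := q.base ⁻¹' (ι.base '' S)
  have hS'c : IsClosed S' := (ι.isClosedEmbedding.isClosedMap _ hS.1).preimage q.continuous
  have hcompl : S'ᶜ = q.base ⁻¹' (ι.base '' Sᶜ) := by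
    ext y
    obtain ⟨w, hw⟩ : q.base y ∈ Set.range ι.base := hr ▸ ⟨y, rfl⟩
    constructor
    · intro h
      exact ⟨w, fun hwS => h ⟨w, hwS, hw⟩, hw⟩
    · rintro ⟨w', hw', he'⟩ ⟨w'', hw'', he''⟩
      exact hw' (ι.isClosedEmbedding.injective (he'.trans he''.symm) ▸ hw'')
  have hS' : IsClopen S' := ⟨hS'c, isClosed_compl_iff.mp
    (hcompl ▸ (ι.isClosedEmbedding.isClosedMap _ hS.compl.1).preimage q.continuous)⟩
  have hmem : ∀ y ∈ C, y ∈ S' ↔ y ∈ U := fun y hy => by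
    obtain ⟨w, hw⟩ : q.base y ∈ Set.range ι.base := hr ▸ ⟨y, rfl⟩
    have hwC : (ι ≫ t).base w ∈ Set.range i.base := by
      rw [Scheme.Hom.comp_apply, hw, ← Scheme.Hom.comp_apply, hqt]; exact hy
    rw [← hqa y]
    constructor
    · rintro ⟨w', hw', he'⟩
      obtain rfl : w' = w := ι.isClosedEmbedding.injective (he'.trans hw.symm)
      exact hw ▸ (hSmem w' hwC).mp hw'
    · intro h
      exact ⟨w, (hSmem w hwC).mpr (show ι.base w ∈ _ from hw.symm ▸ h), hw⟩
  rcases isClopen_iff.mp hS' with he | he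
  · obtain ⟨y, hy, hyu⟩ := hune
    exact Set.eq_empty_iff_forall_notMem.mp he y ((hmem y hy).mpr (hCU ⟨hy, hyu⟩))
  · obtain ⟨y, hy, hyv⟩ := hvne
    have := (hmem y hy).mp (he ▸ Set.mem_univ y)
    exact Set.eq_empty_iff_forall_notMem.mp hdis y ⟨hy, hUu this, hyv⟩

end Groth.Agent.Lib.Gabber50.Integral
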