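import Groth.Agent.Lib.Gabber50.Sections
import Groth.Agent.Lib.Gabber50.Integral
import Groth.Agent.Lib.EtSite.FieldExt
import Mathlib.AlgebraicGeometry.Normalization
import Mathlib.AlgebraicGeometry.ZariskisMainTheorem
import Mathlib.AlgebraicGeometry.Morphisms.UniversallyOpen

/-!
# Gabber's criterion: germs of good sections at a geometric point agree
-/

universe u

open CategoryTheory CategoryTheory.Limits AlgebraicGeometry TopologicalSpace Opposite

namespace Groth.Agent.Lib.Gabber50.Key

open Groth.Agent.Lib.EtSite Groth.Agent.Lib.EtSite.Basic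
open Groth.Agent.Lib.EtGerm.Basic (germ germ_map agree germ_eq_iff prodEt prodFst prodSnd)
open Groth.Agent.Lib.Gabber50.Sections (Good)

/-- Agreement of two maps to a separated scheme extends to specializations. -/
theorem apply_eq_of_specializes {P N X T : Scheme.{u}} (g : N ⟶ X) [IsSeparated g] (a b : P ⟶ N)
    (w : a ≫ g = b ≫ g) (m : T ⟶ P) (hm : m ≫ a = m ≫ b) (x : T) {p : P} (hp : m.base x ⤳ p) :
    a.base p = b.base p := by
  let L : P ⟶ pullback g g := pullback.lift a b w
  let e := pullback.fst L (pullback.diagonal g)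
  let m' : T ⟶ pullback L (pullback.diagonal g) := pullback.lift m (m ≫ a) (by
    apply pullback.hom_ext
    · rw [Category.assoc, Category.assoc, pullback.lift_fst, pullback.diagonal_fst, Category.comp_id]
    · rw [Category.assoc, Category.assoc, pullback.lift_snd, pullback.diagonal_snd, Category.comp_id, hm])
  have hea : e ≫ a = pullback.snd L (pullback.diagonal g) := by
    rw [show a = L ≫ pullback.fst g g from (pullback.lift_fst _ _ _).symm, ← Category.assoc,
      pullback.condition, Category.assoc, pullback.diagonal_fst, Category.comp_id]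
  have heb : e ≫ b = pullback.snd L (pullback.diagonal g) := by
    rw [show b = L ≫ pullback.snd g g from (pullback.lift_snd _ _ _).symm, ← Category.assoc,
      pullback.condition, Category.assoc, pullback.diagonal_snd, Category.comp_id]
  have hmem : p ∈ Set.range e.base := by
    refine hp.mem_closed e.isClosedEmbedding.isClosed_range ⟨m'.base x, ?_⟩
    rw [← Scheme.Hom.comp_apply, pullback.lift_fst]
  obtain ⟨r, rfl⟩ := hmem
  rw [← Scheme.Hom.comp_apply, ← Scheme.Hom.comp_apply, hea, heb]

theorem separated_quasiCompact {V X : Scheme.{u}} (f : V ⟶ X) [IsAffine V] [QuasiSeparatedSpace X] :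
    IsSeparated f ∧ QuasiCompact f := by
  refine ⟨?_, quasiCompact_of_compactSpace f⟩
  have : IsAffineHom (f ≫ terminal.from X) := inferInstance
  exact IsSeparated.of_comp f (terminal.from X)

/-- A good section on a separated quasi-compact etale scheme. -/
structure GS {Z X : Scheme.{u}} (i : Z ⟶ X) (F : EtCoh.Ab X)
    (t : EtCoh.sect ((EtCoh.pull i).obj F) ((EtCoh.bc i).obj (EtCoh.top X))) where
  V : X.Etale
  sep : IsSeparated V.hom
  qc : QuasiCompact V.hom
  s : EtCoh.sect F V
  good : Good i F t V s

section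

variable {X : Scheme.{u}} (V : X.Etale) [IsSeparated V.hom] [QuasiCompact V.hom]
  {Ω : Type u} [Field Ω] [IsSepClosed Ω] (η : Spec (CommRingCat.of Ω) ⟶ X)
  [QuasiCompact η] [QuasiSeparated η] (p : (Scheme.pointSmallEtale η).fiber.obj V)

/-- The map between normalizations attached to a lift. -/
noncomputable def q : η.normalization ⟶ V.hom.normalization :=
  η.normalizationDesc (fiberHom p ≫ V.hom.toNormalization) V.hom.fromNormalization
    (by rw [Category.assoc, V.hom.toNormalization_fromNormalization, fiberHom_comp])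

theorem toNormalization_q : η.toNormalization ≫ q V η p = fiberHom p ≫ V.hom.toNormalization :=
  η.toNormalization_normalizationDesc _ _ _

theorem q_fromNormalization : q V η p ≫ V.hom.fromNormalization = η.fromNormalization :=
  η.normalizationDesc_comp _ _ _

theorem isOpenImmersion_toNormalization : IsOpenImmersion V.hom.toNormalization := by
  have : Etale V.hom := V.prop
  have := FieldExt.locallyQuasiFinite_of_etale V.hom
  infer_instance

omit [IsSepClosed Ω] in
theorem specializes_generic (y : η.normalization) : η.toNormalization.base default ⤳ y := by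
  rw [specializes_iff_mem_closure]
  have h : Set.range η.toNormalization.base = {η.toNormalization.base default} :=
    Set.eq_singleton_iff_unique_mem.mpr ⟨⟨_, rfl⟩, by
      rintro _ ⟨x, rfl⟩; rw [Subsingleton.elim x default]⟩
  rw [← h]
  exact η.toNormalization.denseRange y

/-- Every point of the normalization over the image of `V` is hit by some lift. -/
theorem exists_lift (y : η.normalization) (v : V.left)
    (hv : η.fromNormalization.base y = V.hom.base v) :
    ∃ p : (Scheme.pointSmallEtale η).fiber.obj V,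
      (q V η p).base y = V.hom.toNormalization.base v := by
  have hV : Etale V.hom := V.prop
  let π := η.fromNormalization
  obtain ⟨w₀, hw₁, hw₂⟩ := Scheme.Pullback.exists_preimage_pullback (f := V.hom) (g := π) v y hv.symm
  obtain ⟨w, hw, hwy⟩ := Flat.generalizingMap (pullback.snd V.hom π)
    (show η.toNormalization.base default ⤳ (pullback.snd V.hom π).base w₀ from
      hw₂ ▸ specializes_generic η y)
  obtain ⟨m, hm, hm'⟩ := Scheme.exists_fac_of_etale_of_isSepClosed (pullback.snd V.hom π)
    η.toNormalization w hwy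
  have hp : (m ≫ pullback.fst V.hom π) ≫ V.hom = η := by
    rw [Category.assoc, pullback.condition, ← Category.assoc, hm, η.toNormalization_fromNormalization]
  let p := mkFiber η V (m ≫ pullback.fst V.hom π) hp
  refine ⟨p, ?_⟩
  have h := apply_eq_of_specializes V.hom.fromNormalization (pullback.snd V.hom π ≫ q V η p)
    (pullback.fst V.hom π ≫ V.hom.toNormalization)
    (by rw [Category.assoc, q_fromNormalization, Category.assoc,
      V.hom.toNormalization_fromNormalization, pullback.condition])
    m (by rw [← Category.assoc, hm, toNormalization_q, ← Category.assoc]; rfl) default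
    (show m.base default ⤳ w₀ from hm'.symm ▸ hw)
  rw [Scheme.Hom.comp_apply, Scheme.Hom.comp_apply, hw₁, hw₂] at h
  exact h

end

variable {Z X : Scheme.{u}} {i : Z ⟶ X} (H : Integral.Crit i)
  [CompactSpace X] [QuasiSeparatedSpace X] [IsClosedImmersion i] {F : EtCoh.Ab X}
  {t : EtCoh.sect ((EtCoh.pull i).obj F) ((EtCoh.bc i).obj (EtCoh.top X))}

include H in
/-- Germs at a geometric point of good sections whose points specialize over `Z` agree. -/
theorem germ_eq (a b : GS i F t) {Ω : Type u} [Field Ω] [IsSepClosed Ω]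
    (η : Spec (CommRingCat.of Ω) ⟶ X)
    (p : (Scheme.pointSmallEtale η).fiber.obj a.V) (p' : (Scheme.pointSmallEtale η).fiber.obj b.V)
    (hp : ∃ v, a.V.hom.base v ∈ Set.range i.base ∧ fiberPt p ⤳ v)
    (hp' : ∃ v, b.V.hom.base v ∈ Set.range i.base ∧ fiberPt p' ⤳ v) :
    germ F η a.V p a.s = germ F η b.V p' b.s := by
  have : QuasiCompact η := quasiCompact_of_compactSpace η
  have := fun c : GS i F t => c.sep
  have := fun c : GS i F t => c.qc
  have hj := fun c : GS i F t => isOpenImmersion_toNormalization c.V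
  let π := η.fromNormalization
  let y₀ := η.toNormalization.base default
  have : PreconnectedSpace η.normalization := by
    refine ⟨?_⟩
    have : (Set.univ : Set η.normalization) = closure {y₀} :=
      (Set.eq_univ_of_forall fun y => (specializes_generic η y).mem_closure).symm
    rw [this]
    exact isPreconnected_singleton.closure
  have hC := Integral.isPreconnected_preimage H π
  -- the coordinates
  let L : Type (u + 1) := Σ c : GS i F t, (Scheme.pointSmallEtale η).fiber.obj c.V
  let O : L → Set η.normalization := fun l =>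
    (q l.1.V η l.2).base ⁻¹' Set.range l.1.V.hom.toNormalization.base
  let g : L → EtGerm.Basic.Stk F η := fun l => germ F η l.1.V l.2 l.1.s
  have hO : ∀ l, IsOpen (O l) := fun l =>
    (l.1.V.hom.toNormalization.isOpenEmbedding.isOpen_range).preimage (q l.1.V η l.2).continuous
  have hmeet : ∀ (c : GS i F t) (r : (Scheme.pointSmallEtale η).fiber.obj c.V),
      (∃ v, c.V.hom.base v ∈ Set.range i.base ∧ fiberPt r ⤳ v) →
      ∃ y, y ∈ π.base ⁻¹' Set.range i.base ∧ y ∈ O ⟨c, r⟩ := by
    rintro c r ⟨v, hv, hrv⟩
    let j := c.V.hom.toNormalization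
    have hqc : IsClosedMap (q c.V η r).base := by
      have : IsIntegralHom (q c.V η r) :=
        inferInstanceAs (IsIntegralHom (η.normalizationDesc _ _ _))
      exact (q c.V η r).isClosedMap
    have h0 : (q c.V η r).base y₀ = j.base (fiberPt r) := congr($(toNormalization_q c.V η r) default)
    obtain ⟨y, hy⟩ := (hrv.map j.continuous).mem_closed hqc.isClosed_range ⟨y₀, h0⟩
    refine ⟨y, ?_, ⟨v, hy.symm⟩⟩
    change π.base y ∈ Set.range i.base
    have h1 : π.base y = c.V.hom.fromNormalization.base ((q c.V η r).base y) :=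
      (congr($(q_fromNormalization c.V η r) y)).symm
    rw [h1, hy]
    exact Set.mem_of_eq_of_mem (congr($(c.V.hom.toNormalization_fromNormalization) v)) hv
  have hcov : ∀ y ∈ π.base ⁻¹' Set.range i.base, ∃ l, y ∈ O l := by
    rintro y ⟨z, hz⟩
    obtain ⟨V, hV, s, hs, v, hv⟩ := Sections.exists_good i F t z
    obtain ⟨hsep, hqc⟩ := separated_quasiCompact (show V.left ⟶ X from V.hom)
    let c : GS i F t := ⟨V, hsep, hqc, s, hs⟩
    obtain ⟨r, hr⟩ := exists_lift c.V η y v (hz.symm.trans hv.symm)
    exact ⟨⟨c, r⟩, v, hr.symm⟩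
  have hsame : ∀ y ∈ π.base ⁻¹' Set.range i.base, ∀ l l', y ∈ O l → y ∈ O l' → g l = g l' := by
    rintro y hy ⟨c, r⟩ ⟨c', r'⟩ hl hl'
    let j := c.V.hom.toNormalization
    let j' := c'.V.hom.toNormalization
    let W : η.normalization.Opens := ⟨O ⟨c, r⟩ ∩ O ⟨c', r'⟩, (hO _).inter (hO _)⟩
    let ρ : W.toScheme ⟶ c.V.left := IsOpenImmersion.lift j (W.ι ≫ q c.V η r) (by
      rintro _ ⟨x, rfl⟩; exact x.2.1)
    let ρ' : W.toScheme ⟶ c'.V.left := IsOpenImmersion.lift j' (W.ι ≫ q c'.V η r') (by
      rintro _ ⟨x, rfl⟩; exact x.2.2)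
    have hρ : ρ ≫ j = W.ι ≫ q c.V η r := IsOpenImmersion.lift_fac _ _ _
    have hρ' : ρ' ≫ j' = W.ι ≫ q c'.V η r' := IsOpenImmersion.lift_fac _ _ _
    have hρX : ρ ≫ c.V.hom = ρ' ≫ c'.V.hom := by
      rw [← c.V.hom.toNormalization_fromNormalization, ← c'.V.hom.toNormalization_fromNormalization,
        ← Category.assoc, hρ, ← Category.assoc ρ', hρ', Category.assoc, Category.assoc,
        q_fromNormalization, q_fromNormalization]
    let ρ'' : W.toScheme ⟶ (prodEt c.V c'.V).left := pullback.lift ρ ρ' hρX
    let a₁ : F.obj.obj (op (prodEt c.V c'.V)) := F.obj.map (prodFst c.V c'.V).op c.s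
    let a₂ : F.obj.obj (op (prodEt c.V c'.V)) := F.obj.map (prodSnd c.V c'.V).op c'.s
    let yW : W.toScheme := ⟨y, hl, hl'⟩
    have hyA : ρ''.base yW ∈ agree F (prodEt c.V c'.V) a₁ a₂ := by
      refine Sections.mem_agree i F (fun ξ u => ?_) _ ?_
      · rw [germ_map, germ_map]
        exact Sections.germ_eq i F t c.good c'.good ξ _ _
      · have : (prodEt c.V c'.V).hom.base (ρ''.base yW) = π.base y := by
          have h1 : ρ'' ≫ (prodEt c.V c'.V).hom = W.ι ≫ π := by
            refine (Category.assoc _ _ _).symm.trans ?_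
            refine (congrArg (· ≫ c.V.hom) (pullback.lift_fst ρ ρ' hρX)).trans ?_
            refine (congrArg (ρ ≫ ·) c.V.hom.toNormalization_fromNormalization.symm).trans ?_
            refine (Category.assoc _ _ _).symm.trans ((congrArg (· ≫ _) hρ).trans ?_)
            exact (Category.assoc _ _ _).trans (congrArg (W.ι ≫ ·) (q_fromNormalization c.V η r))
          exact congr($h1 yW)
        rw [this]
        exact hy
    have hrange : Set.range η.toNormalization.base ⊆ Set.range W.ι.base := by
      rintro _ ⟨x, rfl⟩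
      rw [Scheme.Opens.range_ι, Subsingleton.elim x default]
      exact (specializes_generic η y).mem_open W.2 ⟨hl, hl'⟩
    let δ := IsOpenImmersion.lift W.ι η.toNormalization hrange
    have hδ : δ ≫ W.ι = η.toNormalization := IsOpenImmersion.lift_fac _ _ _
    have hd1 : (δ ≫ ρ'') ≫ pullback.fst c.V.hom c'.V.hom = fiberHom r := by
      refine (Category.assoc _ _ _).trans ((δ ≫= pullback.lift_fst ρ ρ' hρX).trans ((cancel_mono j).mp ?_))
      refine (Category.assoc _ _ _).trans ((δ ≫= hρ).trans ((Category.assoc _ _ _).symm.trans ?_))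
      exact (congrArg (· ≫ _) hδ).trans (toNormalization_q c.V η r)
    have hd2 : (δ ≫ ρ'') ≫ pullback.snd c.V.hom c'.V.hom = fiberHom r' := by
      refine (Category.assoc _ _ _).trans ((δ ≫= pullback.lift_snd ρ ρ' hρX).trans ((cancel_mono j').mp ?_))
      refine (Category.assoc _ _ _).trans ((δ ≫= hρ').trans ((Category.assoc _ _ _).symm.trans ?_))
      exact (congrArg (· ≫ _) hδ).trans (toNormalization_q c'.V η r')
    let P := mkFiber η (prodEt c.V c'.V) (δ ≫ ρ'')
      ((Category.assoc _ _ _).symm.trans ((congrArg (· ≫ c.V.hom) hd1).trans (fiberHom_comp r)))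
    have hP : fiberPt P ∈ agree F (prodEt c.V c'.V) a₁ a₂ := by
      have hsp : δ.base default ⤳ yW := by
        rw [W.ι.isOpenEmbedding.isInducing.specializes_iff.symm, ← Scheme.Hom.comp_apply, hδ]
        exact specializes_generic η y
      exact (hsp.map ρ''.continuous).mem_open (EtGerm.Basic.isOpen_agree F _ _ _) hyA
    have h2 := (germ_eq_iff F η _ P a₁ a₂).mpr hP
    rw [germ_map, germ_map] at h2
    have e1 : (Scheme.pointSmallEtale η).fiber.map (prodFst c.V c'.V) P = r :=
      Over.OverMorphism.ext hd1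
    have e2 : (Scheme.pointSmallEtale η).fiber.map (prodSnd c.V c'.V) P = r' :=
      Over.OverMorphism.ext hd2
    rwa [e1, e2] at h2
  obtain ⟨y, hy, hyO⟩ := hmeet a p hp
  obtain ⟨y', hy', hyO'⟩ := hmeet b p' hp'
  by_contra hne
  obtain ⟨x, hx, hx₁, hx₂⟩ := hC (⋃ l ∈ {l | g l = g ⟨a, p⟩}, O l) (⋃ l ∈ {l | g l ≠ g ⟨a, p⟩}, O l)
    (isOpen_biUnion fun l _ => hO l) (isOpen_biUnion fun l _ => hO l)
    (fun x hx => by
      obtain ⟨l, hl⟩ := hcov x hx
      by_cases h : g l = g ⟨a, p⟩
      · exact Or.inl (Set.mem_biUnion h hl)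
      · exact Or.inr (Set.mem_biUnion h hl))
    ⟨y, hy, Set.mem_biUnion (show g ⟨a, p⟩ = g ⟨a, p⟩ from rfl) hyO⟩
    ⟨y', hy', Set.mem_biUnion (show g ⟨b, p'⟩ ≠ g ⟨a, p⟩ from fun h => hne h.symm) hyO'⟩
  obtain ⟨l, hl, hxl⟩ := Set.mem_iUnion₂.mp hx₁
  obtain ⟨l', hl', hxl'⟩ := Set.mem_iUnion₂.mp hx₂
  exact hl' ((hsame x hx l l' hxl hxl').symm.trans hl)

end Groth.Agent.Lib.Gabber50.Key
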