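import Groth.Agent.Lib.Gabber50.Glue
import Groth.Agent.Lib.TopClosed50.Spectral
import Groth.Agent.Lib.TopClosed50.Proper

/-!
# Gabber's criterion for proper schemes over henselian pairs
-/

universe u

open CategoryTheory CategoryTheory.Limits AlgebraicGeometry TopologicalSpace Opposite

namespace Groth.Agent.Lib.Gabber50.Proper

open Groth.Agent.Lib.TopClosed50

theorem bij {A : Type u} [CommRing A] (I : Ideal A) [HenselianRing A I] {X : Scheme.{u}}
    (f : X ⟶ Spec (CommRingCat.of A)) [IsProper f] :
    Clopen.Bij (X := X.carrier) (f.base ⁻¹' PrimeSpectrum.zeroLocus (I : Set A)) := by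
  have : CompactSpace X := QuasiCompact.compactSpace_of_compactSpace f
  have : QuasiSeparatedSpace X := (quasiSeparated_iff_quasiSeparatedSpace f).mp inferInstance
  have : SpectralSpace X.carrier := { }
  exact fun F => Spectral.bijective F ((PrimeSpectrum.isClosed_zeroLocus _).preimage f.continuous)
    (fun x => TopClosed50.Proper.isConnected_inter_closure I f x)

theorem crit {A : Type u} [CommRing A] (I : Ideal A) [HenselianRing A I] {Z X : Scheme.{u}}
    (f : X ⟶ Spec (CommRingCat.of A)) [IsProper f] (i : Z ⟶ X)
    (hi : Set.range i.base = f.base ⁻¹' PrimeSpectrum.zeroLocus (I : Set A)) :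
    Integral.Crit i := by
  refine ⟨hi ▸ (PrimeSpectrum.isClosed_zeroLocus _).preimage f.continuous, hi ▸ bij I f,
    fun X' π _ => ?_⟩
  rw [hi]
  exact bij I (π ≫ f)

theorem bijective {A : Type u} [CommRing A] (I : Ideal A) [HenselianRing A I] {Z X : Scheme.{u}}
    (f : X ⟶ Spec (CommRingCat.of A)) [IsProper f] (i : Z ⟶ X) [IsClosedImmersion i]
    (hi : Set.range i.base = f.base ⁻¹' PrimeSpectrum.zeroLocus (I : Set A)) (F : EtCoh.Ab X) :
    Function.Bijective (EtSite.HensClosed.unitAt i F (EtCoh.top X)) := by
  have : CompactSpace X := QuasiCompact.compactSpace_of_compactSpace f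
  have : QuasiSeparatedSpace X := (quasiSeparated_iff_quasiSeparatedSpace f).mp inferInstance
  exact Glue.bijective (crit I f i hi) F

theorem bijective_pullback {A : Type u} [CommRing A] (I : Ideal A) [HenselianRing A I] {X : Scheme.{u}}
    (f : X ⟶ Spec (CommRingCat.of A)) [IsProper f] (F : EtCoh.Ab X) :
    Function.Bijective (EtSite.HensClosed.unitAt
      (pullback.fst f (Spec.map (CommRingCat.ofHom (Ideal.Quotient.mk I)))) F (EtCoh.top X)) := by
  have : IsClosedImmersion (Spec.map (CommRingCat.ofHom (Ideal.Quotient.mk I))) :=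
    IsClosedImmersion.spec_of_surjective _ Ideal.Quotient.mk_surjective
  have : IsClosedImmersion (pullback.fst f (Spec.map (CommRingCat.ofHom (Ideal.Quotient.mk I)))) :=
    MorphismProperty.pullback_fst (P := @IsClosedImmersion) _ _ inferInstance
  refine bijective I f _ ?_ F
  rw [Scheme.Pullback.range_fst]
  refine congrArg (f.base ⁻¹' ·) ?_
  exact (range_comap_of_surjective _ (Ideal.Quotient.mk I) Ideal.Quotient.mk_surjective).trans
    (by rw [Ideal.mk_ker])

end Groth.Agent.Lib.Gabber50.Proper
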